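import Cfsg.Agent.Lib.KnownA.CosetInv

/-! Coset enumeration certificate for the presented HN. -/

set_option autoImplicit false
set_option maxRecDepth 100000

namespace CfsgLib.InvChar.SporHN.E2

open CfsgLib.InvChar.Coset CfsgLib.KnownA

/-- facts -/
noncomputable def facts : Tr := (.leaf 0x4f0000000007f0000300002f000060000500000700000100000000005000070000000000000007500006000065000050000550000100004500003000030000020000200000100001500000)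
/-- justifications -/
noncomputable def just : Tr := (.leaf 0x20000300000c01da003000000020000b000060000a000050000b0000b000064002c01800800018000200001c0000000005030b002003000080000900000000044042c00400c0001c01d600000100006000050000400000000280100020000000000)
/-- relators -/
def rels : List (List ℕ) := [[2, 2, 2, 2, 2, 2], [0, 0, 2, 0, 0, 3], [1, 3, 0, 2, 1, 3, 0, 2, 1, 3, 0, 2], [1, 2, 2, 0, 2, 2, 2, 1, 2, 2, 0, 2, 2, 2, 1, 2, 2, 0, 2, 2, 2], [0, 2, 0, 2, 0, 2, 0, 2, 0, 2, 0, 2, 0, 2, 0, 2], [0, 2, 0, 2, 2, 2, 0, 2, 0, 2, 2, 2, 0, 2, 0, 2, 2, 2, 0, 2, 0, 2, 2, 2], [4, 4], [4, 0, 4, 0], [4, 2, 1, 3, 3, 1, 3, 1, 3, 4, 2, 0, 2, 0, 2, 2, 0, 3, 1, 1], [4, 3, 1, 3, 1, 3,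 3, 3, 4, 2, 2, 2, 0, 2, 0, 2, 0, 3, 1, 3, 1, 3, 3, 3, 4, 2, 2, 2, 0, 2, 0, 2, 0, 3, 1, 3, 1, 3, 3, 3, 4, 2, 2, 2, 0, 2, 0, 2, 0], [5, 5, 5, 5, 5], [1, 5, 0, 5, 5], [6, 3, 5, 2], [4, 5, 4, 5, 4, 5], [0, 0, 0, 0], [0, 4, 0, 4], [0, 0, 0, 4, 1, 4], [0, 0, 2, 0, 0, 3], [0, 0, 2, 1, 1, 3], [2, 2, 2, 2, 2, 2], [0, 0, 2, 0, 4, 1, 4, 3], [0, 0, 2, 1, 4, 0, 4, 3], [0, 0, 2, 2, 0, 0, 3, 3], [0, 0, 2, 2, 1, 1, 3, 3], [0, 0, 2, 4, 0, 0, 4, 3], [0, 0, 2, 4, 0, 4, 1, 3], [0, 0, 2, 4, 1, 1, 4, 3], [0, 0, 2, 4, 1, 4, 0, 3], [0, 0, 3, 0, 4, 1, 4, 2], [0, 0, 3, 1, 4, 0, 4, 2], [0, 0, 3, 4, 0, 0, 4, 2], [0, 0, 3, 4, 0, 4, 1, 2], [0, 0, 3, 4, 1, 1, 4, 2], [0, 0, 3, 4, 1, 4, 0, 2], [0,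 0, 2, 2, 0, 4, 1, 4, 3, 3], [0, 0, 2, 2, 1, 4, 0, 4, 3, 3], [0, 0, 2, 2, 2, 0, 0, 3, 3, 3], [0, 0, 2, 2, 2, 1, 1, 3, 3, 3], [0, 0, 2, 2, 4, 0, 0, 4, 3, 3], [0, 0, 2, 2, 4, 0, 4, 1, 3, 3], [0, 0, 2, 2, 4, 1, 1, 4, 3, 3], [0, 0, 2, 2, 4, 1, 4, 0, 3, 3], [0, 0, 2, 4, 2, 0, 0, 3, 4, 3], [0, 0, 2, 4, 2, 1, 1, 3, 4, 3], [0, 0, 2, 4, 3, 0, 0, 2, 4, 3], [0, 0, 2, 4, 3, 1, 1, 2, 4, 3], [0, 0, 3, 3, 0, 4, 1, 4, 2, 2], [0, 0, 3, 3, 1, 4, 0, 4, 2, 2], [0, 0, 3, 3, 4, 0, 0, 4, 2, 2], [0, 0, 3, 3, 4, 0, 4, 1, 2, 2], [0, 0, 3, 3, 4, 1, 1, 4, 2, 2], [0, 0, 3, 3, 4, 1, 4, 0, 2, 2], [0, 0, 3, 4, 2, 0, 0, 3, 4, 2], [0, 0, 3, 4, 2, 1, 1, 3, 4, 2], [0, 0, 4, 2, 0, 4, 1, 4, 3, 4], [0, 0,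 4, 2, 1, 4, 0, 4, 3, 4], [0, 0, 4, 2, 4, 0, 4, 1, 3, 4], [0, 0, 4, 2, 4, 1, 4, 0, 3, 4], [0, 0, 4, 3, 0, 4, 1, 4, 2, 4], [0, 0, 4, 3, 1, 4, 0, 4, 2, 4], [0, 0, 4, 3, 4, 0, 4, 1, 2, 4], [0, 0, 4, 3, 4, 1, 4, 0, 2, 4], [0, 0, 2, 2, 2, 0, 4, 1, 4, 3, 3, 3], [0, 0, 2, 2, 2, 1, 4, 0, 4, 3, 3, 3], [0, 0, 2, 2, 2, 4, 0, 4, 1, 3, 3, 3], [0, 0, 2, 2, 2, 4, 1, 4, 0, 3, 3, 3], [0, 0, 2, 2, 4, 2, 0, 0, 3, 4, 3, 3], [0, 0, 2, 2, 4, 2, 1, 1, 3, 4, 3, 3], [0, 0, 2, 2, 4, 3, 0, 0, 2, 4, 3, 3], [0, 0, 2, 2, 4, 3, 1, 1, 2, 4, 3, 3], [0, 0, 2, 4, 2, 0, 4, 1, 4, 3, 4, 3], [0, 0, 2, 4, 2, 1, 4, 0, 4, 3, 4, 3], [0, 0, 2, 4, 2, 2, 0, 0, 3, 3, 4, 3], [0, 0, 2, 4, 2, 2, 1, 1, 3, 3, 4, 3],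 [0, 0, 2, 4, 2, 4, 0, 0, 4, 3, 4, 3], [0, 0, 2, 4, 2, 4, 0, 4, 1, 3, 4, 3], [0, 0, 2, 4, 2, 4, 1, 1, 4, 3, 4, 3], [0, 0, 2, 4, 2, 4, 1, 4, 0, 3, 4, 3], [0, 0, 2, 4, 3, 0, 4, 1, 4, 2, 4, 3], [0, 0, 2, 4, 3, 1, 4, 0, 4, 2, 4, 3], [0, 0, 2, 4, 3, 4, 0, 0, 4, 2, 4, 3], [0, 0, 2, 4, 3, 4, 0, 4, 1, 2, 4, 3], [0, 0, 2, 4, 3, 4, 1, 1, 4, 2, 4, 3], [0, 0, 2, 4, 3, 4, 1, 4, 0, 2, 4, 3], [0, 0, 3, 3, 3, 4, 0, 0, 4, 2, 2, 2], [0, 0, 3, 3, 3, 4, 1, 1, 4, 2, 2, 2], [0, 0, 3, 3, 4, 2, 0, 0, 3, 4, 2, 2], [0, 0, 3, 3, 4, 2, 1, 1, 3, 4, 2, 2], [0, 0, 3, 4, 2, 0, 4, 1, 4, 3, 4, 2], [0, 0, 3, 4, 2, 1, 4, 0, 4, 3, 4, 2], [0, 0, 3, 4, 2, 4, 0, 0, 4, 3, 4, 2], [0, 0, 3, 4, 2, 4, 0, 4, 1,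 3, 4, 2], [0, 0, 3, 4, 2, 4, 1, 1, 4, 3, 4, 2], [0, 0, 3, 4, 2, 4, 1, 4, 0, 3, 4, 2], [0, 0, 3, 4, 3, 0, 4, 1, 4, 2, 4, 2], [0, 0, 3, 4, 3, 1, 4, 0, 4, 2, 4, 2], [0, 0, 3, 4, 3, 4, 0, 0, 4, 2, 4, 2], [0, 0, 3, 4, 3, 4, 0, 4, 1, 2, 4, 2], [0, 0, 3, 4, 3, 4, 1, 1, 4, 2, 4, 2], [0, 0, 3, 4, 3, 4, 1, 4, 0, 2, 4, 2], [0, 0, 4, 2, 2, 0, 4, 1, 4, 3, 3, 4], [0, 0, 4, 2, 2, 1, 4, 0, 4, 3, 3, 4], [0, 0, 4, 2, 2, 4, 0, 4, 1, 3, 3, 4], [0, 0, 4, 2, 2, 4, 1, 4, 0, 3, 3, 4], [0, 0, 4, 3, 3, 0, 4, 1, 4, 2, 2, 4], [0, 0, 4, 3, 3, 1, 4, 0, 4, 2, 2, 4], [0, 0, 4, 3, 3, 4, 0, 4, 1, 2, 2, 4], [0, 0, 4, 3, 3, 4, 1, 4, 0, 2, 2, 4], [0, 2, 0, 3, 0, 2, 0, 3, 0, 2, 1, 3], [0, 2, 0, 3, 0, 2,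 0, 3, 1, 2, 0, 3], [0, 2, 0, 3, 0, 2, 1, 3, 1, 2, 1, 3], [0, 2, 0, 3, 1, 2, 0, 3, 1, 2, 1, 3], [0, 2, 0, 3, 1, 2, 1, 3, 0, 2, 1, 3], [0, 2, 0, 3, 4, 2, 0, 3, 0, 2, 4, 3], [0, 2, 0, 3, 4, 2, 1, 3, 1, 2, 4, 3], [0, 2, 0, 4, 3, 0, 4, 2, 1, 4, 3, 4], [0, 2, 0, 4, 3, 0, 4, 2, 4, 0, 3, 4], [0, 2, 0, 4, 3, 1, 4, 2, 0, 4, 3, 4], [0, 2, 0, 4, 3, 1, 4, 2, 4, 1, 3, 4], [0, 2, 0, 4, 3, 4, 0, 2, 4, 1, 3, 4], [0, 2, 0, 4, 3, 4, 1, 2, 4, 0, 3, 4], [0, 2, 1, 3, 4, 2, 0, 3, 1, 2, 4, 3], [0, 2, 1, 3, 4, 2, 1, 3, 0, 2, 4, 3], [0, 2, 1, 4, 3, 0, 4, 2, 0, 4, 3, 4], [0, 2, 1, 4, 3, 1, 4, 2, 1, 4, 3, 4], [0, 2, 1, 4, 3, 4, 0, 2, 4, 0, 3, 4], [0, 2, 1, 4, 3, 4, 1, 2, 4, 1, 3, 4], [0, 2, 4,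 0, 3, 0, 4, 2, 0, 4, 3, 4], [0, 2, 4, 0, 3, 0, 4, 2, 4, 1, 3, 4], [0, 2, 4, 0, 3, 4, 1, 2, 0, 4, 3, 4], [0, 2, 4, 1, 3, 0, 4, 2, 1, 4, 3, 4], [0, 2, 4, 1, 3, 0, 4, 2, 4, 0, 3, 4], [0, 2, 4, 1, 3, 4, 1, 2, 1, 4, 3, 4], [0, 2, 4, 3, 1, 2, 0, 3, 4, 2, 1, 3], [0, 2, 4, 3, 1, 2, 1, 3, 4, 2, 0, 3], [0, 2, 4, 3, 4, 2, 1, 3, 4, 2, 4, 3], [0, 3, 0, 4, 2, 1, 4, 3, 0, 4, 2, 4], [0, 3, 0, 4, 2, 1, 4, 3, 4, 1, 2, 4], [0, 3, 0, 4, 2, 4, 0, 3, 4, 1, 2, 4], [0, 4, 2, 0, 4, 3, 0, 4, 2, 4, 1, 3], [0, 4, 2, 0, 4, 3, 4, 1, 2, 0, 4, 3], [0, 4, 2, 0, 4, 3, 4, 1, 2, 4, 1, 3], [2, 4, 3, 4, 2, 4, 3, 4, 2, 4, 3, 4], [0, 0, 0, 2, 4, 3, 4, 2, 0, 3, 4, 2, 4, 3], [0, 0, 0, 3, 4, 2, 4, 3, 0, 2,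 4, 3, 4, 2], [0, 0, 2, 2, 2, 4, 2, 0, 0, 3, 4, 3, 3, 3], [0, 0, 2, 2, 2, 4, 2, 1, 1, 3, 4, 3, 3, 3], [0, 0, 2, 2, 2, 4, 3, 0, 0, 2, 4, 3, 3, 3], [0, 0, 2, 2, 2, 4, 3, 1, 1, 2, 4, 3, 3, 3], [0, 0, 2, 2, 4, 2, 0, 4, 1, 4, 3, 4, 3, 3], [0, 0, 2, 2, 4, 2, 1, 4, 0, 4, 3, 4, 3, 3], [0, 0, 2, 2, 4, 2, 2, 0, 0, 3, 3, 4, 3, 3], [0, 0, 2, 2, 4, 2, 2, 1, 1, 3, 3, 4, 3, 3], [0, 0, 2, 2, 4, 2, 4, 0, 0, 4, 3, 4, 3, 3], [0, 0, 2, 2, 4, 2, 4, 0, 4, 1, 3, 4, 3, 3], [0, 0, 2, 2, 4, 2, 4, 1, 1, 4, 3, 4, 3, 3], [0, 0, 2, 2, 4, 2, 4, 1, 4, 0, 3, 4, 3, 3], [0, 0, 2, 2, 4, 3, 0, 4, 1, 4, 2, 4, 3, 3], [0, 0, 2, 2, 4, 3, 1, 4, 0, 4, 2, 4, 3, 3], [0, 0, 2, 2, 4, 3, 3, 0, 0, 2, 2, 4, 3, 3],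 [0, 0, 2, 2, 4, 3, 3, 1, 1, 2, 2, 4, 3, 3], [0, 0, 2, 2, 4, 3, 4, 0, 0, 4, 2, 4, 3, 3], [0, 0, 2, 2, 4, 3, 4, 0, 4, 1, 2, 4, 3, 3], [0, 0, 2, 2, 4, 3, 4, 1, 1, 4, 2, 4, 3, 3], [0, 0, 2, 2, 4, 3, 4, 1, 4, 0, 2, 4, 3, 3], [0, 0, 2, 4, 2, 2, 0, 4, 1, 4, 3, 3, 4, 3], [0, 0, 2, 4, 2, 2, 1, 4, 0, 4, 3, 3, 4, 3], [0, 0, 2, 4, 2, 2, 2, 0, 0, 3, 3, 3, 4, 3], [0, 0, 2, 4, 2, 2, 2, 1, 1, 3, 3, 3, 4, 3], [0, 0, 2, 4, 2, 2, 4, 0, 0, 4, 3, 3, 4, 3], [0, 0, 2, 4, 2, 2, 4, 0, 4, 1, 3, 3, 4, 3], [0, 0, 2, 4, 2, 2, 4, 1, 1, 4, 3, 3, 4, 3], [0, 0, 2, 4, 2, 2, 4, 1, 4, 0, 3, 3, 4, 3], [0, 0, 2, 4, 2, 4, 2, 0, 0, 3, 4, 3, 4, 3], [0, 0, 2, 4, 2, 4, 2, 1, 1, 3, 4, 3, 4, 3], [0, 0, 2, 4,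 2, 4, 3, 0, 0, 2, 4, 3, 4, 3], [0, 0, 2, 4, 2, 4, 3, 1, 1, 2, 4, 3, 4, 3], [0, 0, 2, 4, 3, 3, 0, 4, 1, 4, 2, 2, 4, 3], [0, 0, 2, 4, 3, 3, 1, 4, 0, 4, 2, 2, 4, 3], [0, 0, 2, 4, 3, 3, 4, 0, 0, 4, 2, 2, 4, 3], [0, 0, 2, 4, 3, 3, 4, 0, 4, 1, 2, 2, 4, 3], [0, 0, 2, 4, 3, 3, 4, 1, 1, 4, 2, 2, 4, 3], [0, 0, 2, 4, 3, 3, 4, 1, 4, 0, 2, 2, 4, 3], [0, 0, 3, 3, 3, 4, 2, 0, 0, 3, 4, 2, 2, 2], [0, 0, 3, 3, 3, 4, 2, 1, 1, 3, 4, 2, 2, 2], [0, 0, 3, 3, 4, 2, 0, 4, 1, 4, 3, 4, 2, 2], [0, 0, 3, 3, 4, 2, 1, 4, 0, 4, 3, 4, 2, 2], [0, 0, 3, 3, 4, 2, 2, 0, 0, 3, 3, 4, 2, 2], [0, 0, 3, 3, 4, 2, 2, 1, 1, 3, 3, 4, 2, 2], [0, 0, 3, 3, 4, 2, 4, 0, 0, 4, 3, 4, 2, 2], [0, 0, 3, 3, 4, 2, 4, 0, 4,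 1, 3, 4, 2, 2], [0, 0, 3, 3, 4, 2, 4, 1, 1, 4, 3, 4, 2, 2], [0, 0, 3, 3, 4, 2, 4, 1, 4, 0, 3, 4, 2, 2], [0, 0, 3, 3, 4, 3, 0, 4, 1, 4, 2, 4, 2, 2], [0, 0, 3, 3, 4, 3, 1, 4, 0, 4, 2, 4, 2, 2], [0, 0, 3, 3, 4, 3, 4, 0, 0, 4, 2, 4, 2, 2], [0, 0, 3, 3, 4, 3, 4, 0, 4, 1, 2, 4, 2, 2], [0, 0, 3, 3, 4, 3, 4, 1, 1, 4, 2, 4, 2, 2], [0, 0, 3, 3, 4, 3, 4, 1, 4, 0, 2, 4, 2, 2], [0, 0, 3, 4, 2, 2, 0, 4, 1, 4, 3, 3, 4, 2], [0, 0, 3, 4, 2, 2, 1, 4, 0, 4, 3, 3, 4, 2], [0, 0, 3, 4, 2, 2, 4, 0, 0, 4, 3, 3, 4, 2], [0, 0, 3, 4, 2, 2, 4, 0, 4, 1, 3, 3, 4, 2], [0, 0, 3, 4, 2, 2, 4, 1, 1, 4, 3, 3, 4, 2], [0, 0, 3, 4, 2, 2, 4, 1, 4, 0, 3, 3, 4, 2], [0, 0, 3, 4, 2, 4, 2, 0, 0, 3, 4, 3, 4, 2],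 [0, 0, 3, 4, 2, 4, 2, 1, 1, 3, 4, 3, 4, 2], [0, 0, 3, 4, 3, 3, 0, 4, 1, 4, 2, 2, 4, 2], [0, 0, 3, 4, 3, 3, 1, 4, 0, 4, 2, 2, 4, 2], [0, 0, 3, 4, 3, 3, 4, 0, 0, 4, 2, 2, 4, 2], [0, 0, 3, 4, 3, 3, 4, 0, 4, 1, 2, 2, 4, 2], [0, 0, 3, 4, 3, 3, 4, 1, 1, 4, 2, 2, 4, 2], [0, 0, 3, 4, 3, 3, 4, 1, 4, 0, 2, 2, 4, 2], [0, 0, 4, 2, 2, 2, 0, 4, 1, 4, 3, 3, 3, 4], [0, 1], [1, 0], [2, 3], [3, 2], [5, 6], [6, 5]]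
/-- subgroup words -/
def subs : List (List ℕ) := [[0], [2], [4]]
/-- certificate -/
noncomputable def cert : CosetInv.Cert := ⟨14, 7, facts, just, rels, subs, 0xfedcba9875642301⟩
/-- facts along the walk -/
noncomputable def goalPath : ℕ := 0xd00003000020000100000
/-- the word -/
def goal : List ℕ := [5, 0, 0, 5]

end CfsgLib.InvChar.SporHN.E2
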